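import Cfsg.Agent.NilPPrime.Main
import Cfsg.Agent.ClosedSE.Eight
import Cfsg.Agent.S4Comp.Solv
import Cfsg.Agent.QdFree.Involve
import Cfsg.Agent.S0205
import Cfsg.Agent.OrderType.Count

/-!
# All p'-subgroups nilpotent, p > 3: solvable
-/

set_option autoImplicit false

namespace Cfsg.Agent.NilPPrime

open Subgroup

universe u

variable {G : Type u} [Group G] [Finite G] {p : ℕ} [Fact p.Prime]

/-- A `p'`-image of a solvable subgroup is nilpotent. -/
theorem isNilpotent_image {Y : Type*} [Group Y] [Finite Y]
    (hnil : ∀ H : Subgroup G, (Nat.card H).Coprime p → Group.IsNilpotent H) {K : Subgroup G}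
    (hK : Group.IsSolvable K) (f : K →* Y) (hf : Function.Surjective f)
    (hY : (Nat.card Y).Coprime p) : Group.IsNilpotent Y := by
  obtain ⟨B, ⟨hBK, hBc, k, hk⟩, -⟩ := AbelPPrime.exists_hallIn (p := p) hK (bot_le : ⊥ ≤ K) (by simp)
  have := hnil B hBc
  refine Group.nilpotent_of_surjective (f.comp (Subgroup.inclusion hBK)) ?_
  rw [← MonoidHom.range_eq_top, MonoidHom.range_comp, Subgroup.inclusion_range, ← index_eq_one]
  refine Nat.eq_one_of_dvd_coprimes (hY.pow_right k) (index_dvd_card _) ?_
  rw [← hk]
  exact index_map_dvd (B.subgroupOf K) hf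

theorem not_isNilpotent_perm_four : ¬ Group.IsNilpotent (Equiv.Perm (Fin 4)) := fun h => by
  let a : Equiv.Perm (Fin 4) := Equiv.swap 0 1
  let b : Equiv.Perm (Fin 4) := Equiv.swap 0 1 * Equiv.swap 1 2
  have ha : orderOf a = 2 := orderOf_eq_prime (by decide) (by decide)
  have : Fact (Nat.Prime 3) := ⟨Nat.prime_three⟩
  have hb : orderOf b = 3 := orderOf_eq_prime (by decide) (by decide)
  have h1 := OddLocal.commute_of_coprime_orderOf h (x := a) (y := b) (by rw [ha, hb]; decide)
  exact absurd h1.eq (by decide)

theorem secHyp [IsSimpleGroup G] (hn : ¬ IsCyclic G) (hp3 : 3 < p)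
    (hsolv : ∀ H : Subgroup G, H ≠ ⊤ → Group.IsSolvable H)
    (hnil : ∀ H : Subgroup G, (Nat.card H).Coprime p → Group.IsNilpotent H) :
    S4Comp.SecHyp G := by
  have hG : ¬ Group.IsSolvable G := fun hs => hn (FTCons.isCyclic_of_solvable hs)
  refine ⟨fun h => ?_, fun X _ _ K f hf hX => ?_⟩
  · obtain ⟨K, f, hf⟩ := QdFree.exists_surjective_of_involves h
    have h4 : Group.IsSolvable (Equiv.Perm (Fin 4)) → K ≠ ⊤ := fun hs e => by
      subst e
      let g : G →* Equiv.Perm (Fin 4) := f.comp topEquiv.symm.toMonoidHom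
      have hg : Function.Surjective g := hf.comp topEquiv.symm.surjective
      rcases IsSimpleGroup.eq_bot_or_eq_top_of_normal g.ker inferInstance with h1 | h1
      · exact hG (Group.isSolvable_of_isSolvable_injective (f := g) ((MonoidHom.ker_eq_bot_iff g).1 h1))
      · obtain ⟨x, hx⟩ := hg (Equiv.swap 0 1)
        have : g x = 1 := h1.ge (mem_top x)
        rw [hx] at this
        exact absurd this (by decide)
    have hK : K ≠ ⊤ := h4 OrderType.s4_solvable
    refine not_isNilpotent_perm_four (isNilpotent_image (Y := Equiv.Perm (Fin 4)) hnil (hsolv K hK) f hf ?_)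
    rw [Nat.card_eq_fintype_card, Fintype.card_perm, Fintype.card_fin]
    refine ((Fact.out : p.Prime).coprime_iff_not_dvd.2 fun hd => ?_).symm
    have := (Fact.out : p.Prime).dvd_factorial.1 (show p ∣ Nat.factorial 4 from hd)
    interval_cases p
    exact absurd (Fact.out : Nat.Prime 4) (by norm_num)
  by_cases hK : K = ⊤
  swap
  · have := hsolv K hK
    have := Group.isSolvable_of_surjective hf
    exact S4Comp.compK_of_solvable
  subst hK
  let g : G →* X := f.comp topEquiv.symm.toMonoidHom
  have hg : Function.Surjective g := hf.comp topEquiv.symm.surjective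
  rcases IsSimpleGroup.eq_bot_or_eq_top_of_normal g.ker inferInstance with h1 | h1
  · exfalso
    have hinj := (MonoidHom.ker_eq_bot_iff g).1 h1
    have : Fact (Nat.Prime 2) := ⟨Nat.prime_two⟩
    have hc : Cfsg.pCore 2 X = ⊥ := by
      rcases IsSimpleGroup.eq_bot_or_eq_top_of_normal ((Cfsg.pCore 2 X).comap g)
        (Core.pCore_normal.comap g) with h2 | h2
      · exact comap_injective hg (h2.trans ((MonoidHom.comap_bot g).trans h1).symm)
      · have h3 : IsPGroup 2 ((Cfsg.pCore 2 X).comap g) :=
          (Core.pCore_isPGroup (p := 2) (G := X)).comap_of_injective g hinj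
        rw [h2] at h3
        have hnil2 : Group.IsNilpotent G := (h3.of_equiv topEquiv).isNilpotent
        exact absurd (inferInstance : Group.IsSolvable G) hG
    rw [hc] at hX
    refine hG ?_
    have hX1 : ∀ x : X, x = 1 := fun x =>
      mem_bot.1 (hX (mem_centralizer_iff.2 (by rintro _ rfl; simp)))
    exact Group.isSolvable_of_comm fun a b => hinj ((hX1 _).trans (hX1 _).symm)
  · have hX1 : ∀ x : X, x = 1 := fun x => by
      obtain ⟨y, rfl⟩ := hg x
      exact h1.ge (mem_top y)
    have : Group.IsSolvable X := Group.isSolvable_of_comm fun a b => (hX1 _).trans (hX1 _).symm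
    exact S4Comp.compK_of_solvable

theorem simple_case [IsSimpleGroup G] (hn : ¬ IsCyclic G) (hp3 : 3 < p)
    (hsolv : ∀ H : Subgroup G, H ≠ ⊤ → Group.IsSolvable H)
    (hnil : ∀ H : Subgroup G, (Nat.card H).Coprime p → Group.IsNilpotent H) : False := by
  have hp : p.Prime := Fact.out
  have heven : Even (Nat.card G) := Nat.not_odd_iff_even.1 fun ho =>
    hn (FTCons.isCyclic_of_solvable (S0205.result ho))
  obtain ⟨M, hM, A, hAM, hA, h8⟩ := ClosedSE.exists_stronglyEmbedded hn heven hsolv
    (secHyp hn hp3 hsolv hnil) fun A hA y hy hi a ha => by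
      obtain ⟨i, hi⟩ := hi
      obtain ⟨k, hk⟩ := IsPGroup.iff_card.1 hA
      have h23 : Nat.Coprime (2 ^ k) (3 ^ i) := Nat.Coprime.pow _ _ (by norm_num)
      refine (commute_of_normalize hnil ha hy ?_ ?_ ?_).symm
      · rw [hk]
        exact ((Nat.coprime_primes Nat.prime_two hp).2 (by omega)).pow_left k
      · rw [hi]
        exact ((Nat.coprime_primes Nat.prime_three hp).2 (by omega)).pow_left i
      · rw [hi]
        exact h23.coprime_dvd_left (hk ▸ (orderOf_mk a ha ▸ orderOf_dvd_natCard (⟨a, ha⟩ : A)))
  classical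
  have := Fintype.ofFinite A
  obtain ⟨v1, v2, h1, h2, hne⟩ : ∃ v1 v2 : A, v1 ≠ 1 ∧ v2 ≠ 1 ∧ v1 ≠ v2 := by
    have hc : 2 < ((Finset.univ : Finset A).erase 1).card + 1 := by
      rw [Finset.card_erase_of_mem (Finset.mem_univ _), Finset.card_univ, ← Nat.card_eq_fintype_card]
      omega
    obtain ⟨v1, hv1, v2, hv2, hne⟩ := Finset.one_lt_card.1 (by omega : 1 < ((Finset.univ : Finset A).erase 1).card)
    exact ⟨v1, v2, (Finset.mem_erase.1 hv1).1, (Finset.mem_erase.1 hv2).1, hne⟩
  have ho : ∀ v : A, v ≠ 1 → orderOf (v : G) = 2 := fun v hv =>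
    orderOf_eq_prime (hA.2 v v.2) fun e => hv (Subtype.ext e)
  have hctx : Ctx p M := ⟨hp, by omega, inferInstance, hn, hsolv, hnil, hM, v1, hAM v1.2, v2,
    hAM v2.2, ho v1 h1, ho v2 h2, fun e => hne (Subtype.ext e),
    congrArg Subtype.val (hA.1.is_comm.comm v1 v2)⟩
  exact hctx.absurd'

theorem solvable_aux (hp3 : 3 < p) (n : ℕ) : ∀ (G : Type u) [Group G] [Finite G], Nat.card G = n →
    (∀ H : Subgroup G, (Nat.card H).Coprime p → Group.IsNilpotent H) → Group.IsSolvable G := by
  induction n using Nat.strong_induction_on with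
  | _ n ih =>
  intro G _ _ hcard hnil
  subst hcard
  have hp : p.Prime := Fact.out
  have hsolv : ∀ H : Subgroup G, H ≠ ⊤ → Group.IsSolvable H := fun H hH =>
    ih _ (Core.card_lt_of_ne_top hH) H rfl fun K hK => by
      let e := K.equivMapOfInjective H.subtype H.subtype_injective
      have := hnil (K.map H.subtype) (by rwa [card_map_of_injective H.subtype_injective])
      exact Group.nilpotent_of_surjective e.symm.toMonoidHom e.symm.surjective
  by_cases hN : ∃ N : Subgroup G, N.Normal ∧ N ≠ ⊥ ∧ N ≠ ⊤
  · obtain ⟨N, hNn, hNb, hNt⟩ := hN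
    have := hsolv N hNt
    set π := QuotientGroup.mk' N
    suffices hq : Group.IsSolvable (G ⧸ N) by
      exact Group.isSolvable_of_ker_le_range N.subtype π (by
        rw [QuotientGroup.ker_mk', range_subtype])
    by_cases hd : (Nat.card (G ⧸ N)).Coprime p
    · obtain ⟨P⟩ : Nonempty (Sylow p N) := inferInstance
      set P' := (P : Subgroup N).map N.subtype
      have hfr : normalizer (P' : Set G) ⊔ N = ⊤ := Sylow.normalizer_sup_eq_top P
      by_cases hP : normalizer (P' : Set G) = ⊤
      · have hPn : P'.Normal := normalizer_eq_top_iff.1 hP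
        have hcop : (Nat.card P').Coprime P'.index := by
          obtain ⟨k, hk⟩ := IsPGroup.iff_card.1 P.2
          rw [card_map_of_injective N.subtype_injective, hk, index_map_subtype]
          refine Nat.Coprime.pow_left k ?_
          refine Nat.Coprime.mul_right (hp.coprime_iff_not_dvd.2 P.not_dvd_index) ?_
          rw [index_eq_card]
          exact hd.symm
        obtain ⟨C, hC⟩ := exists_right_complement'_of_coprime hcop
        have hCc : (Nat.card C).Coprime p := by
          rw [← hC.symm.index_eq_card, show P'.index = (P : Subgroup N).index * N.index from index_map_subtype _]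
          exact Nat.Coprime.mul_left (hp.coprime_iff_not_dvd.2 P.not_dvd_index).symm
            (by rw [index_eq_card]; exact hd)
        have := hnil C hCc
        refine Group.isSolvable_of_surjective (f := π.comp C.subtype) ?_
        rw [← MonoidHom.range_eq_top, MonoidHom.range_comp, range_subtype]
        have h1 := congrArg (Subgroup.map π) hC.sup_eq_top
        rwa [Subgroup.map_sup, map_top_of_surjective π (QuotientGroup.mk'_surjective N),
          show P'.map π = ⊥ from (Subgroup.map_eq_bot_iff _).2 (by
            rw [QuotientGroup.ker_mk']; exact map_subtype_le _), bot_sup_eq] at h1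
      · have := hsolv _ hP
        refine Group.isSolvable_of_surjective (f := π.comp (normalizer (P' : Set G)).subtype) ?_
        rw [← MonoidHom.range_eq_top, MonoidHom.range_comp, range_subtype]
        have h1 := congrArg (Subgroup.map π) hfr
        rwa [Subgroup.map_sup, map_top_of_surjective π (QuotientGroup.mk'_surjective N),
          show N.map π = ⊥ from QuotientGroup.map_mk'_self N, sup_bot_eq] at h1
    refine ih _ (Core.card_quotient_lt hNb) (G ⧸ N) rfl fun H hH => ?_
    have hL : H.comap π ≠ ⊤ := fun e => hd (by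
      have hHtop : H = ⊤ := comap_injective (QuotientGroup.mk'_surjective N) (e.trans (comap_top π).symm)
      rw [hHtop, card_top] at hH
      exact hH)
    exact isNilpotent_image hnil (hsolv _ hL) (π.subgroupComap H)
      (MonoidHom.subgroupComap_surjective_of_surjective π H (QuotientGroup.mk'_surjective N)) hH
  push Not at hN
  rcases subsingleton_or_nontrivial G with h1 | h1
  · exact Group.isSolvable_of_comm fun a b => Subsingleton.elim _ _
  have : IsSimpleGroup G := ⟨fun N hNn => or_iff_not_imp_left.2 (hN N hNn)⟩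
  by_cases hc : IsCyclic G
  · let _ : CommGroup G := IsCyclic.commGroup
    infer_instance
  · exact (simple_case hc hp3 hsolv hnil).elim

end Cfsg.Agent.NilPPrime
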