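import Cfsg.Agent.NilPPrime.Solv
import Cfsg.Agent.AbelPPrime.Basic
import Cfsg.Agent.OddLocal.Basic
import Cfsg.Agent.FTCons.Basic

/-!
# No simple group has all p'-subgroups nilpotent and a strongly embedded subgroup
-/

set_option autoImplicit false

namespace Cfsg.Agent.NilPPrime

open Subgroup MulAction

universe u

variable {G : Type u} [Group G] [Finite G]

/-- Elements of coprime order, one normalising a subgroup containing the other, commute. -/
theorem commute_of_normalize {p : ℕ} [Fact p.Prime]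
    (hnil : ∀ H : Subgroup G, (Nat.card H).Coprime p → Group.IsNilpotent H) {U : Subgroup G} {x y : G}
    (hx : x ∈ U) (hy : y ∈ normalizer (U : Set G)) (hUp : (Nat.card U).Coprime p)
    (hyp : (orderOf y).Coprime p) (hxy : (orderOf x).Coprime (orderOf y)) : Commute x y := by
  set K := U ⊔ zpowers y
  have hK : (Nat.card K).Coprime p := by
    refine Nat.Coprime.coprime_dvd_left
      (Core.card_sup_dvd_of_le_normalizer (X := U) (C := zpowers y) (zpowers_le.2 hy)) ?_
    refine Nat.Coprime.mul_left ?_ ?_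
    all_goals first | exact hUp | (rw [Nat.card_zpowers]; exact hyp)
  have h := OddLocal.commute_of_coprime_orderOf (hnil K hK)
    (x := ⟨x, mem_sup_left hx⟩) (y := ⟨y, mem_sup_right (mem_zpowers y)⟩)
    (by rwa [orderOf_mk, orderOf_mk])
  exact congrArg Subtype.val h

/-- The setting. -/
structure Ctx (p : ℕ) (M : Subgroup G) : Prop where
  prime : p.Prime
  ne_two : p ≠ 2
  simple : IsSimpleGroup G
  ncyc : ¬ IsCyclic G
  solv : ∀ H : Subgroup G, H ≠ ⊤ → Group.IsSolvable H
  nil : ∀ H : Subgroup G, (Nat.card H).Coprime p → Group.IsNilpotent H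
  se : Cfsg.IsStronglyEmbedded M
  four : ∃ v1 ∈ M, ∃ v2 ∈ M, orderOf v1 = 2 ∧ orderOf v2 = 2 ∧ v1 ≠ v2 ∧ Commute v1 v2

variable {p : ℕ} {M : Subgroup G}

theorem Ctx.four_at (h : Ctx p M) (a : G ⧸ M) :
    ∃ v1 v2 : G, v1 ∈ invAt M a ∧ v2 ∈ invAt M a ∧ v1 ≠ v2 ∧ Commute v1 v2 := by
  obtain ⟨v1, h1, v2, h2, o1, o2, hne, hc⟩ := h.four
  obtain ⟨g, rfl⟩ := QuotientGroup.mk_surjective a
  refine ⟨g * v1 * g⁻¹, g * v2 * g⁻¹, ⟨(Invol.orderOf_conj g v1).trans o1, ?_⟩,
    ⟨(Invol.orderOf_conj g v2).trans o2, ?_⟩, fun e => hne (mul_left_cancel (mul_right_cancel e)), ?_⟩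
  · rw [involution_fix_iff ((Invol.orderOf_conj g v1).trans o1),
      show g⁻¹ * (g * v1 * g⁻¹) * g = v1 by group]
    exact h1
  · rw [involution_fix_iff ((Invol.orderOf_conj g v2).trans o2),
      show g⁻¹ * (g * v2 * g⁻¹) * g = v2 by group]
    exact h2
  · show g * v1 * g⁻¹ * (g * v2 * g⁻¹) = g * v2 * g⁻¹ * (g * v1 * g⁻¹)
    calc _ = g * (v1 * v2) * g⁻¹ := by group
      _ = _ := by rw [hc.eq]; group

theorem Ctx.stab_ne_top (h : Ctx p M) (a : G ⧸ M) : stabilizer G a ≠ ⊤ := (se_stabilizer h.se a).1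

theorem Ctx.centralizer_ne_top (h : Ctx p M) {y : G} (hy : y ≠ 1) :
    centralizer ({y} : Set G) ≠ ⊤ := fun e => by
  have := h.simple
  refine h.ncyc (FTCons.isCyclic_of_central (z := y) (mem_center_iff.2 fun g => ?_) hy)
  exact mem_centralizer_singleton_iff.1 (e.ge (mem_top g))

/-- A `p'`-element fixing `a` centralises a four-group fixing `a`. -/
theorem Ctx.exists_four_centralised (h : Ctx p M) {y : G} {a : G ⧸ M} (hy : y • a = a) {r : ℕ}
    (hr : r.Prime) (hrp : r ≠ p) (hr2 : r ≠ 2) (hyr : orderOf y = r) :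
    ∃ v1 v2 : G, v1 ∈ invAt M a ∧ v2 ∈ invAt M a ∧ v1 ≠ v2 ∧ Commute v1 v2 ∧
      Commute v1 y ∧ Commute v2 y := by
  have := Fact.mk h.prime
  have : Fact (Nat.Prime 2) := ⟨Nat.prime_two⟩
  set X := stabilizer G a with hX
  have hyX : zpowers y ≤ X := zpowers_le.2 (mem_stabilizer_iff.2 hy)
  obtain ⟨B, hB, hyB⟩ := AbelPPrime.exists_hallIn (p := p) (h.solv X (h.stab_ne_top a)) hyX
    (by rw [Nat.card_zpowers, hyr]; exact (Nat.coprime_primes hr h.prime).2 hrp)
  obtain ⟨hBX, hBc, k, hk⟩ := hB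
  obtain ⟨T, hT⟩ := Control.SylIn.exists (p := 2) B
  have hTX : Control.SylIn 2 T X := by
    refine ⟨hT.le.trans hBX, hT.isPGroup, fun hd => ?_⟩
    rw [← relIndex_mul_relIndex T B X hT.le hBX, hk] at hd
    rcases Nat.prime_two.dvd_mul.1 hd with h1 | h1
    · exact hT.not_dvd h1
    · exact h.ne_two ((Nat.prime_dvd_prime_iff_eq Nat.prime_two h.prime).1
        (Nat.prime_two.dvd_of_dvd_pow h1)).symm
  obtain ⟨v1, v2, h1, h2, hne, hc⟩ := h.four_at a
  set V := closure ({v1, v2} : Set G) with hV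
  have hVX : V ≤ X := by
    rw [hV, closure_le]
    rintro _ (rfl | rfl)
    exacts [mem_stabilizer_iff.2 h1.2, mem_stabilizer_iff.2 h2.2]
  have hVp : IsPGroup 2 V := by
    have hVc : IsMulCommutative V := Subgroup.isMulCommutative_closure (by
      rintro _ (rfl | rfl) _ (rfl | rfl)
      exacts [rfl, hc, hc.symm, rfl])
    intro b
    refine ⟨1, Subtype.ext ?_⟩
    rw [pow_one, SubmonoidClass.coe_pow, OneMemClass.coe_one]
    obtain ⟨b, hb⟩ := b
    show b ^ 2 = 1
    clear * - hb hVc h1 h2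
    induction hb using closure_induction with
    | mem x hx =>
      rcases hx with rfl | rfl
      · rw [← h1.1, pow_orderOf_eq_one]
      · rw [← h2.1, pow_orderOf_eq_one]
    | one => simp
    | mul x y hx hy ex ey =>
      rw [(show Commute x y from congrArg Subtype.val (hVc.is_comm.comm ⟨x, hx⟩ ⟨y, hy⟩)).mul_pow,
        ex, ey, one_mul]
    | inv x _ ex => rw [inv_pow, ex, inv_one]
  obtain ⟨m, hm, hmV⟩ := hTX.exists_cjSub_le hVp hVX
  have hmem : ∀ v ∈ invAt M a, v ∈ V → m * v * m⁻¹ ∈ invAt M a ∧ Commute (m * v * m⁻¹) y := by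
    intro v hv hvV
    have hma : m • a = a := mem_stabilizer_iff.1 hm
    refine ⟨⟨(Invol.orderOf_conj m v).trans hv.1, ?_⟩, ?_⟩
    · rw [mul_smul, mul_smul, show m⁻¹ • a = a by conv_lhs => rw [← hma, inv_smul_smul],
        hv.2, hma]
    · have h3 := OddLocal.commute_of_coprime_orderOf (h.nil B hBc)
        (x := ⟨m * v * m⁻¹, hT.le (hmV ⟨v, hvV, rfl⟩)⟩) (y := ⟨y, hyB (mem_zpowers y)⟩)
        (by rw [orderOf_mk, orderOf_mk, Invol.orderOf_conj, hv.1, hyr]
            exact (Nat.coprime_primes Nat.prime_two hr).2 (Ne.symm hr2))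
      exact congrArg Subtype.val h3
  obtain ⟨g1, c1⟩ := hmem v1 h1 (subset_closure (Set.mem_insert _ _))
  obtain ⟨g2, c2⟩ := hmem v2 h2 (subset_closure (Set.mem_insert_of_mem _ rfl))
  refine ⟨_, _, g1, g2, fun e => hne (mul_left_cancel (mul_right_cancel e)), ?_, c1, c2⟩
  show m * v1 * m⁻¹ * (m * v2 * m⁻¹) = m * v2 * m⁻¹ * (m * v1 * m⁻¹)
  calc _ = m * (v1 * v2) * m⁻¹ := by group
    _ = _ := by rw [hc.eq]; group

/-- Two-point stabilisers are `p`-groups. -/
theorem Ctx.isPGroup_pair (h : Ctx p M) {a b : G ⧸ M} (hab : a ≠ b) :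
    IsPGroup p ↥(stabilizer G a ⊓ stabilizer G b) := by
  have := Fact.mk h.prime
  set D := stabilizer G a ⊓ stabilizer G b
  refine IsPGroup.of_card (n := (Nat.card D).primeFactorsList.length)
    (Nat.eq_prime_pow_of_unique_prime_dvd Nat.card_pos.ne' fun {r} hr hrd => ?_)
  by_contra hrp
  have := Fact.mk hr
  obtain ⟨y, hy⟩ := exists_prime_orderOf_dvd_card' r hrd
  obtain ⟨hya, hyb⟩ := mem_inf.1 y.2
  rw [mem_stabilizer_iff] at hya hyb
  have hyr : orderOf (y : G) = r := (orderOf_coe y).trans hy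
  have hr2 : r ≠ 2 := by
    rintro rfl
    exact hab (fixed_unique h.se hyr hya hyb)
  have hy1 : (y : G) ≠ 1 := fun e => by rw [e, orderOf_one] at hyr; exact hr.ne_one hyr.symm
  obtain ⟨v1, v2, h1, h2, hne, hc, c1, c2⟩ := h.exists_four_centralised hya hr hrp hr2 hyr
  obtain ⟨u1, -, g1, -, -, -, d1, -⟩ := h.exists_four_centralised hyb hr hrp hr2 hyr
  have hfix := fix_of_four h.se (h.solv _ (h.centralizer_ne_top hy1))
    (mem_centralizer_singleton_iff.2 c1.eq) (mem_centralizer_singleton_iff.2 c2.eq)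
    h1.1 h2.1 hne hc h1.2 u1 (mem_centralizer_singleton_iff.2 d1.eq)
  exact hab (fixed_unique h.se g1.1 hfix g1.2)

theorem Ctx.odd_pair (h : Ctx p M) {a b : G ⧸ M} (hab : a ≠ b) :
    Odd (Nat.card ↥(stabilizer G a ⊓ stabilizer G b)) := by
  have := Fact.mk h.prime
  obtain ⟨n, hn⟩ := IsPGroup.iff_card.1 (h.isPGroup_pair hab)
  rw [hn]
  exact (h.prime.odd_of_ne_two h.ne_two).pow

omit [Finite G] in
/-- Inverted elements of odd order give conjugacy. -/
theorem exists_conj_of_inverted {D : Subgroup G} {w w' : G} (hw : orderOf w = 2) (hw' : orderOf w' = 2)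
    (hx : w * w' ∈ D) {m : ℕ} (hm : Odd m) (hxm : (w * w') ^ m = 1) :
    ∃ e ∈ D, w' = e⁻¹ * w * e := by
  obtain ⟨k, rfl⟩ := hm
  set x := w * w'
  refine ⟨x ^ (k + 1), pow_mem hx _, ?_⟩
  have hwx : w * x * w⁻¹ = x⁻¹ := by
    rw [mul_inv_rev, Invol.inv_eq_self hw', Invol.inv_eq_self hw, ← mul_assoc w w,
      Invol.mul_self_eq_one hw, one_mul]
  have h2 : w * (x ^ (k + 1))⁻¹ = x ^ (k + 1) * w := by
    rw [← inv_pow, ← hwx, conj_pow, ← mul_assoc, ← mul_assoc, Invol.mul_self_eq_one hw, one_mul,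
      Invol.inv_eq_self hw]
  have h3 : (x ^ (k + 1))⁻¹ * w = w * x ^ (k + 1) := by
    rw [← inv_pow, ← hwx, conj_pow, inv_mul_cancel_right]
  rw [h3, mul_assoc, ← pow_add, show k + 1 + (k + 1) = 2 * k + 1 + 1 by ring, pow_succ, hxm, one_mul,
    ← mul_assoc, Invol.mul_self_eq_one hw, one_mul]

/-- The fixed point of a swapper is not fixed by the two-point stabiliser. -/
theorem Ctx.not_fix (h : Ctx p M) {a b f : G ⧸ M} (hab : a ≠ b) {w : G} (hw : w ∈ swapper M a b)
    (hf : w • f = f) (hD : stabilizer G a ⊓ stabilizer G b ≤ stabilizer G f) : False := by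
  set D := stabilizer G a ⊓ stabilizer G b
  have hsub : swapper M a b ⊆ invAt M f := by
    intro v hv
    refine ⟨hv.1, ?_⟩
    have hxD : w * v ∈ D := mem_inf.2
      ⟨mem_stabilizer_iff.2 (by rw [mul_smul, hv.2, swapper_symm hw]),
        mem_stabilizer_iff.2 (by rw [mul_smul, swapper_symm hv, hw.2])⟩
    obtain ⟨e, he, rfl⟩ := exists_conj_of_inverted hw.1 hv.1 hxD (h.odd_pair hab)
      (congrArg Subtype.val (pow_card_eq_one' (x := (⟨_, hxD⟩ : D))))
    have hef : e • f = f := mem_stabilizer_iff.1 (hD he)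
    rw [mul_smul, mul_smul, hef, hf]
    conv_lhs => rw [← hef, inv_smul_smul]
  have heq : swapper M a b = invAt M f := Set.eq_of_subset_of_ncard_le hsub
    (by rw [ncard_swapper h.se hab, ncard_invAt_eq f b])
  obtain ⟨v1, v2, h1, h2, hne, hc⟩ := h.four_at f
  rw [← heq] at h1 h2
  have h12a : (v1 * v2) • a = a := by rw [mul_smul, h2.2, swapper_symm h1]
  have h12 : orderOf (v1 * v2) = 2 := by
    refine orderOf_eq_prime ?_ fun e => hne ?_
    · rw [hc.mul_pow, show v1 ^ 2 = 1 by rw [← h1.1, pow_orderOf_eq_one],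
        show v2 ^ 2 = 1 by rw [← h2.1, pow_orderOf_eq_one], one_mul]
    · exact (mul_eq_one_iff_eq_inv.1 e).trans (Invol.inv_eq_self h2.1)
  have h1f : v1 • a = a := fixed_of_commute h.se h12 h12a
    ((Commute.refl v1).mul_right hc)
  exact hab (h1f.symm.trans h1.2)

/-- Some two-point stabiliser is a Sylow `p`-subgroup. -/
theorem Ctx.exists_sylow_pair (h : Ctx p M) :
    ∃ (a b : G ⧸ M) (P : Sylow p G), a ≠ b ∧ (P : Subgroup G) = stabilizer G a ⊓ stabilizer G b := by
  classical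
  have := Fact.mk h.prime
  have hne : Nonempty {q : (G ⧸ M) × (G ⧸ M) // q.1 ≠ q.2} := by
    obtain ⟨g, hg⟩ : ∃ g, g ∉ stabilizer G (base M) := by
      by_contra! h'
      exact h.stab_ne_top _ (eq_top_iff.2 fun x _ => h' x)
    exact ⟨⟨(g • base M, base M), hg⟩⟩
  obtain ⟨⟨⟨a, b⟩, hab⟩, hmax⟩ := Finite.exists_max
    (fun q : {q : (G ⧸ M) × (G ⧸ M) // q.1 ≠ q.2} =>
      Nat.card ↥(stabilizer G q.1.1 ⊓ stabilizer G q.1.2))
  set D := stabilizer G a ⊓ stabilizer G b with hDdef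
  have hab' : a ≠ b := hab
  obtain ⟨w, hw⟩ := swapper_nonempty h.se hab'
  obtain ⟨f, hf⟩ := exists_fixed h.se hw.1
  have hnf : ¬ D ≤ stabilizer G f := h.not_fix hab' hw hf
  have hDbot : D ≠ ⊥ := fun e => hnf (e.le.trans bot_le)
  have := h.simple
  have hDtop : D ≠ ⊤ := ne_top_of_le_ne_top (h.stab_ne_top a) inf_le_left
  set L := normalizer (D : Set G)
  have hL : L ≠ ⊤ := fun e => by
    rcases IsSimpleGroup.eq_bot_or_eq_top_of_normal D (normalizer_eq_top_iff.1 e) with h1 | h1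
    exacts [hDbot h1, hDtop h1]
  have hswL : ∀ {c d : G ⧸ M} {v : G}, v ∈ swapper M c d →
      stabilizer G c ⊓ stabilizer G d = D → v ∈ L := by
    intro c d v hv e
    refine mem_normalizer_fintype (S := (D : Set G)) fun x hx => ?_
    rw [SetLike.mem_coe, ← e, mem_inf, mem_stabilizer_iff, mem_stabilizer_iff] at hx
    rw [SetLike.mem_coe, ← e, mem_inf, mem_stabilizer_iff, mem_stabilizer_iff, Invol.inv_eq_self hv.1]
    simp only [mul_smul, hv.2, swapper_symm hv, hx.1, hx.2, and_self]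
  have hwL : w ∈ L := hswL hw rfl
  have hDL : D ≤ L := Subgroup.le_normalizer
  have hLs := h.solv L hL
  have hno : ∀ v1 ∈ L, ∀ v2 ∈ L, orderOf v1 = 2 → orderOf v2 = 2 → Commute v1 v2 → v1 = v2 := by
    intro v1 h1 v2 h2 o1 o2 hc
    by_contra hne
    obtain ⟨c, hc'⟩ := exists_fixed h.se o1
    have hfix := fix_of_four h.se hLs h1 h2 o1 o2 hne hc hc'
    have e : f = c := fixed_unique h.se hw.1 hf (hfix w hwL)
    exact hnf fun d hd => mem_stabilizer_iff.2 (e ▸ hfix d (hDL hd))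
  set O := (Cfsg.pPrimeCore 2 L).map L.subtype
  have hOL : O ≤ L := map_subtype_le _
  have hOodd : Odd (Nat.card O) := by
    have : Fact (Nat.Prime 2) := ⟨Nat.prime_two⟩
    rw [← Nat.not_even_iff_odd, even_iff_two_dvd, card_map_of_injective L.subtype_injective]
    exact Core.not_dvd_card_pPrimeCore
  -- the fixed points of `D`
  have hFix : ∀ e : G ⧸ M, (∀ d ∈ D, d • e = e) → e = a ∨ e = b := by
    intro e he
    by_contra hcon
    push Not at hcon
    obtain ⟨hea, heb⟩ := hcon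
    have hae : stabilizer G a ⊓ stabilizer G e = D :=
      (eq_of_le_of_card_ge (le_inf inf_le_left fun d hd => mem_stabilizer_iff.2 (he d hd))
        (hmax ⟨(a, e), Ne.symm hea⟩)).symm
    have hbe : stabilizer G b ⊓ stabilizer G e = D :=
      (eq_of_le_of_card_ge (le_inf inf_le_right fun d hd => mem_stabilizer_iff.2 (he d hd))
        (hmax ⟨(b, e), Ne.symm heb⟩)).symm
    obtain ⟨w1, hw1⟩ := swapper_nonempty h.se (Ne.symm hea)
    obtain ⟨w2, hw2⟩ := swapper_nonempty h.se (Ne.symm heb)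
    have hoO : w2 * w1 ∈ O :=
      involutions_congr hLs hno (hswL hw2 hbe) (hswL hw1 hae) hw2.1 hw1.1
    set o := w2 * w1 with ho
    have hoa : o • a = b := by rw [ho, mul_smul, hw1.2, swapper_symm hw2]
    -- an involution of `L` fixing `a`
    have hON : ∀ x ∈ O, w * x * w ∈ O := by
      rintro _ ⟨x, hx, rfl⟩
      refine ⟨⟨w, hwL⟩ * x * ⟨w, hwL⟩⁻¹, Core.pPrimeCore_normal.conj_mem x hx _, ?_⟩
      show w * (x : G) * w⁻¹ = w * x * w
      rw [Invol.inv_eq_self hw.1]
    set k := Nat.card O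
    have hx2 : (w * o) ^ 2 ∈ O := by
      rw [pow_two, show w * o * (w * o) = w * o * w * o by group]
      exact mul_mem (hON o hoO) hoO
    set i := (w * o) ^ k with hi
    have hi2 : i ^ 2 = 1 := by
      rw [hi, ← pow_mul, mul_comm, pow_mul]
      exact congrArg Subtype.val (pow_card_eq_one' (x := (⟨_, hx2⟩ : O)))
    have hwi : w * i ∈ O := by
      obtain ⟨l, hl⟩ := hOodd
      rw [hi, show k = 1 + 2 * l by omega, pow_add, pow_one, pow_mul, ← mul_assoc, ← mul_assoc,
        Invol.mul_self_eq_one hw.1, one_mul]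
      exact mul_mem hoO (pow_mem hx2 l)
    have hi1 : i ≠ 1 := fun e1 => by
      rw [e1, mul_one] at hwi
      have h5 := Subgroup.orderOf_dvd_natCard _ hwi
      rw [hw.1] at h5
      exact (Nat.not_even_iff_odd.2 hOodd) (even_iff_two_dvd.2 h5)
    have hio : orderOf i = 2 := orderOf_eq_prime hi2 hi1
    have hia : i • a = a := by
      have hwoa : w * o ∈ stabilizer G a := mem_stabilizer_iff.2 (by
        rw [mul_smul, hoa, swapper_symm hw])
      exact mem_stabilizer_iff.1 (pow_mem hwoa k)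
    obtain ⟨e0, he0, hie⟩ := exists_conj_of_inverted hw.1 hio hwi hOodd
      (congrArg Subtype.val (pow_card_eq_one' (x := (⟨_, hwi⟩ : O))))
    have hfa : f = e0 • a := by
      refine fixed_unique h.se hw.1 hf ?_
      conv_rhs => rw [← hia, hie, mul_smul, mul_smul, smul_inv_smul]
    refine hnf fun d hd => mem_stabilizer_iff.2 ?_
    have h1 : e0⁻¹ * d * e0 ∈ D := by
      have := (mem_normalizer_iff.1 (inv_mem (hOL he0)) d).1 hd
      rwa [inv_inv] at this
    rw [hfa, smul_smul, show d * e0 = e0 * (e0⁻¹ * d * e0) by group, mul_smul,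
      mem_stabilizer_iff.1 (mem_inf.1 h1).1]
  obtain ⟨P, hP⟩ := (h.isPGroup_pair hab').exists_le_sylow
  refine ⟨a, b, P, hab', le_antisymm ?_ hP⟩
  by_contra hle
  have hlt : D.subgroupOf (P : Subgroup G) < ⊤ := by
    rw [lt_top_iff_ne_top, ne_eq, subgroupOf_eq_top]
    exact hle
  have : Group.IsNilpotent (P : Subgroup G) := P.2.isNilpotent
  obtain ⟨x, hxN, hxD⟩ := SetLike.exists_of_lt (Group.normalizerCondition_of_isNilpotent _ hlt)
  rw [← subgroupOf_normalizer_eq hP, mem_subgroupOf] at hxN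
  have hperm : ∀ c : G ⧸ M, (c = a ∨ c = b) → ((x : G) • c = a ∨ (x : G) • c = b) := by
    intro c hc
    refine hFix _ fun d hd => ?_
    have h1 : (x : G)⁻¹ * d * x ∈ D := by
      have := (mem_normalizer_iff.1 (inv_mem hxN) d).1 hd
      rwa [inv_inv] at this
    rw [smul_smul, show d * (x : G) = x * ((x : G)⁻¹ * d * x) by group, mul_smul]
    congr 1
    rcases hc with rfl | rfl
    exacts [mem_stabilizer_iff.1 (mem_inf.1 h1).1, mem_stabilizer_iff.1 (mem_inf.1 h1).2]
  obtain ⟨n, hn⟩ := IsPGroup.iff_card.1 P.2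
  have hodd : Odd (orderOf (x : G)) := by
    rw [orderOf_coe]
    exact (hn ▸ (h.prime.odd_of_ne_two h.ne_two).pow : Odd (Nat.card (P : Subgroup G))).of_dvd_nat
      (_root_.orderOf_dvd_natCard x)
  have hxa : (x : G) • a = a := by
    rcases hperm a (Or.inl rfl) with e | e
    · exact e
    · exfalso
      have hxb : (x : G) • b = a := by
        rcases hperm b (Or.inr rfl) with e' | e'
        · exact e'
        · exact absurd (smul_left_cancel _ (e.trans e'.symm)) hab'
      have hpar : ∀ l, ((x : G) ^ (2 * l + 1)) • a = b := by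
        intro l
        induction l with
        | zero => simpa using e
        | succ l ih =>
          rw [show 2 * (l + 1) + 1 = 2 + (2 * l + 1) by ring, pow_add, mul_smul, ih, pow_two,
            mul_smul, hxb, e]
      obtain ⟨l, hl⟩ := hodd
      have := hpar l
      rw [← hl, pow_orderOf_eq_one, one_smul] at this
      exact hab' this
  have hxb : (x : G) • b = b := by
    rcases hperm b (Or.inr rfl) with e | e
    · exact absurd (smul_left_cancel _ (e.trans hxa.symm)) hab'.symm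
    · exact e
  exact hxD (mem_subgroupOf.2 (mem_inf.2 ⟨mem_stabilizer_iff.2 hxa, mem_stabilizer_iff.2 hxb⟩))

/-- The contradiction. -/
theorem Ctx.absurd' (h : Ctx p M) : False := by
  have := Fact.mk h.prime
  obtain ⟨a, b, P, -, hP⟩ := h.exists_sylow_pair
  have hfixp : ∀ y : G, IsPGroup p (zpowers y) → ∃ c : G ⧸ M, y • c = c := by
    intro y hy
    obtain ⟨g, -, hg⟩ := (Control.sylIn_top P).exists_cjSub_le hy le_top
    have : g * y * g⁻¹ ∈ (P : Subgroup G) := hg ⟨y, mem_zpowers y, rfl⟩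
    rw [hP] at this
    have hfa := mem_stabilizer_iff.1 (mem_inf.1 this).1
    refine ⟨g⁻¹ • a, ?_⟩
    conv_rhs => rw [← hfa, ← mul_smul, show g⁻¹ * (g * y * g⁻¹) = y * g⁻¹ by group, mul_smul]
  obtain ⟨t, ht⟩ := invAt_nonempty h.se a
  refine false_of_products_fix h.se ht fun u hu hua => hfixp _ ?_
  set x := t * u
  have hodd : Odd (orderOf x) := odd_product h.se ht.1 hu ht.2 hua
  refine IsPGroup.of_card (n := (orderOf x).primeFactorsList.length) ((Nat.card_zpowers x).trans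
    (Nat.eq_prime_pow_of_unique_prime_dvd (orderOf_pos x).ne' fun {r} hr hrd => ?_))
  by_contra hrp
  have hr2 : r ≠ 2 := by
    rintro rfl
    exact (Nat.not_even_iff_odd.2 hodd) (even_iff_two_dvd.2 hrd)
  set y := x ^ (orderOf x / r)
  have hy : orderOf y = r := orderOf_pow_orderOf_div (orderOf_pos x).ne' hrd
  have hinv : t * y * t⁻¹ = y⁻¹ := by
    rw [← conj_pow, ← inv_pow]
    congr 1
    rw [mul_inv_rev, Invol.inv_eq_self hu, Invol.inv_eq_self ht.1, ← mul_assoc,
      Invol.mul_self_eq_one ht.1, one_mul]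
  have hc : Commute y t := by
    refine commute_of_normalize h.nil (mem_zpowers y) ?_
      (by rw [Nat.card_zpowers, hy]; exact (Nat.coprime_primes hr h.prime).2 hrp)
      (by rw [ht.1]; exact (Nat.coprime_primes Nat.prime_two h.prime).2 (Ne.symm h.ne_two))
      (by rw [hy, ht.1]; exact (Nat.coprime_primes hr Nat.prime_two).2 hr2)
    refine mem_normalizer_fintype (S := (zpowers y : Set G)) fun z hz => ?_
    obtain ⟨j, rfl⟩ := mem_zpowers_iff.1 hz
    rw [SetLike.mem_coe, ← conj_zpow, hinv, inv_zpow]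
    exact inv_mem (zpow_mem (mem_zpowers y) j)
  have h1 : y⁻¹ = y := by rw [← hinv, ← hc.eq, mul_inv_cancel_right]
  have h2 : orderOf y ∣ 2 := orderOf_dvd_of_pow_eq_one (by
    nth_rw 1 [pow_two, ← h1]
    rw [inv_mul_cancel])
  rw [hy] at h2
  exact hr2 ((Nat.prime_dvd_prime_iff_eq hr Nat.prime_two).1 h2)

end Cfsg.Agent.NilPPrime
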