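import Cfsg.Agent.Invol.SEPairs
import Mathlib.GroupTheory.GroupAction.Quotient
import Mathlib.Algebra.BigOperators.Fin

/-!
# The points of a strongly embedded subgroup
-/

set_option autoImplicit false

namespace Cfsg.Agent.NilPPrime

open Subgroup MulAction

variable {G : Type*} [Group G] {M : Subgroup G}

/-- The base point. -/
abbrev base (M : Subgroup G) : G ⧸ M := QuotientGroup.mk 1

theorem smul_eq_self_iff {t g : G} :
    t • (QuotientGroup.mk g : G ⧸ M) = QuotientGroup.mk g ↔ g⁻¹ * t⁻¹ * g ∈ M := by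
  rw [MulAction.Quotient.smul_mk, smul_eq_mul, QuotientGroup.eq, mul_inv_rev]

/-- An element fixing a point of the pair and moved by the involution fixes the other. -/
theorem smul_smul_self {w : G} (hw : orderOf w = 2) (a : G ⧸ M) : w • w • a = a := by
  rw [smul_smul, Invol.mul_self_eq_one hw, one_smul]

theorem involution_fix_iff {t g : G} (ht : orderOf t = 2) :
    t • (QuotientGroup.mk g : G ⧸ M) = QuotientGroup.mk g ↔ g⁻¹ * t * g ∈ M := by
  rw [smul_eq_self_iff, Invol.inv_eq_self ht]

variable [Finite G]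

theorem exists_fixed (hM : Cfsg.IsStronglyEmbedded M) {t : G} (ht : orderOf t = 2) :
    ∃ a : G ⧸ M, t • a = a := by
  obtain ⟨s, hsM, hs⟩ := Invol.se_exists_involution hM
  obtain ⟨g, hg⟩ := isConj_iff.1 (Invol.se_isConj_all hM hs ht)
  exact ⟨QuotientGroup.mk g, (involution_fix_iff ht).2 (by
    rw [← hg, show g⁻¹ * (g * s * g⁻¹) * g = s by group]; exact hsM)⟩

theorem fixed_unique (hM : Cfsg.IsStronglyEmbedded M) {t : G} (ht : orderOf t = 2) {a b : G ⧸ M}
    (ha : t • a = a) (hb : t • b = b) : a = b := by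
  obtain ⟨g, rfl⟩ := QuotientGroup.mk_surjective a
  obtain ⟨k, rfl⟩ := QuotientGroup.mk_surjective b
  rw [involution_fix_iff ht] at ha hb
  refine QuotientGroup.eq.2 (Invol.se_mem hM (t := g⁻¹ * t * g) ?_ ha ?_)
  · have := Invol.orderOf_conj g⁻¹ t
    rw [inv_inv] at this
    omega
  · rwa [show (g⁻¹ * k)⁻¹ * (g⁻¹ * t * g) * (g⁻¹ * k) = k⁻¹ * t * k by group]

theorem fixed_of_commute (hM : Cfsg.IsStronglyEmbedded M) {t c : G} (ht : orderOf t = 2)
    {a : G ⧸ M} (ha : t • a = a) (hc : Commute c t) : c • a = a := by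
  refine fixed_unique hM ht ?_ ha
  rw [smul_smul, ← hc.eq, ← smul_smul, ha]

theorem se_stabilizer (hM : Cfsg.IsStronglyEmbedded M) (a : G ⧸ M) :
    Cfsg.IsStronglyEmbedded (stabilizer G a) := by
  obtain ⟨g, rfl⟩ := QuotientGroup.mk_surjective a
  obtain ⟨s, hsM, hs⟩ := Invol.se_exists_involution hM
  have hs' : orderOf (g * s * g⁻¹) = 2 := (Invol.orderOf_conj g s).trans hs
  refine (Invol.se_iff _).2 ⟨fun e => hM.1 (eq_top_iff.2 fun x _ => ?_), ?_,
    fun t x ht htS htx => ?_⟩
  · have h : (g * x * g⁻¹) • (QuotientGroup.mk g : G ⧸ M) = QuotientGroup.mk g :=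
      mem_stabilizer_iff.1 (e.ge (mem_top _))
    rw [smul_eq_self_iff] at h
    have := inv_mem h
    rwa [show (g⁻¹ * (g * x * g⁻¹)⁻¹ * g)⁻¹ = x by group] at this
  · rw [even_iff_two_dvd]
    have hmem : g * s * g⁻¹ ∈ stabilizer G (QuotientGroup.mk g : G ⧸ M) :=
      mem_stabilizer_iff.2 ((involution_fix_iff hs').2 (by
        rw [show g⁻¹ * (g * s * g⁻¹) * g = s by group]; exact hsM))
    have := _root_.orderOf_dvd_natCard (⟨_, hmem⟩ : stabilizer G (QuotientGroup.mk g : G ⧸ M))
    rwa [orderOf_mk, hs'] at this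
  · have h1 : t • x • (QuotientGroup.mk g : G ⧸ M) = x • QuotientGroup.mk g := by
      conv_rhs => rw [← mem_stabilizer_iff.1 htx, smul_smul, show x * (x⁻¹ * t * x) = t * x by group,
        ← smul_smul]
    exact mem_stabilizer_iff.2 (fixed_unique hM ht h1 (mem_stabilizer_iff.1 htS))

/-- Involutions fixing different points have a product of odd order. -/
theorem odd_product (hM : Cfsg.IsStronglyEmbedded M) {t u : G} (ht : orderOf t = 2)
    (hu : orderOf u = 2) {a : G ⧸ M} (ha : t • a = a) (hua : u • a ≠ a) : Odd (orderOf (t * u)) :=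
  Invol.se_odd_of_mem_of_notMem (se_stabilizer hM a) ht (mem_stabilizer_iff.2 ha) hu
    fun h => hua (mem_stabilizer_iff.1 h)

/-- The involutions fixing a point. -/
def invAt (M : Subgroup G) (a : G ⧸ M) : Set G := {t | orderOf t = 2 ∧ t • a = a}

/-- The involutions moving one point to another. -/
def swapper (M : Subgroup G) (a b : G ⧸ M) : Set G := {w | orderOf w = 2 ∧ w • a = b}

omit [Finite G] in
theorem swapper_symm {w : G} {a b : G ⧸ M} (hw : w ∈ swapper M a b) : w • b = a := by
  rw [← hw.2, smul_smul_self hw.1]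

theorem invAt_nonempty (hM : Cfsg.IsStronglyEmbedded M) (a : G ⧸ M) : (invAt M a).Nonempty := by
  obtain ⟨t, ht, ht2⟩ := Invol.se_exists_involution (se_stabilizer hM a)
  exact ⟨t, ht2, mem_stabilizer_iff.1 ht⟩

theorem ncard_invAt_eq (a b : G ⧸ M) : (invAt M a).ncard = (invAt M b).ncard := by
  obtain ⟨g, hg⟩ := exists_smul_eq G a b
  have e : invAt M b = (fun t => g * t * g⁻¹) '' invAt M a := by
    ext t
    constructor
    · rintro ⟨ht, htb⟩
      refine ⟨g⁻¹ * t * g, ⟨?_, ?_⟩, by group⟩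
      · have := Invol.orderOf_conj g⁻¹ t
        rw [inv_inv] at this
        omega
      · rw [mul_smul, mul_smul, hg, htb, ← hg, inv_smul_smul]
    · rintro ⟨s, ⟨hs, hsa⟩, rfl⟩
      refine ⟨(Invol.orderOf_conj g s).trans hs, ?_⟩
      show (g * s * g⁻¹) • b = b
      rw [mul_smul, mul_smul, ← hg, inv_smul_smul, hsa]
  rw [e, Set.ncard_image_of_injective _ fun x y h => mul_left_cancel (mul_right_cancel h)]

/-- Exactly one swapper for each involution of the second point. -/
theorem existsUnique_swapper (hM : Cfsg.IsStronglyEmbedded M) {a b : G ⧸ M} (hab : a ≠ b) {t : G}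
    (ht : t ∈ invAt M a) {s : G} (hs : s ∈ invAt M b) :
    ∃! w : G, w ∈ swapper M a b ∧ w * t * w = s := by
  have hsa : s ∉ stabilizer G a := fun h =>
    hab (fixed_unique hM hs.1 (mem_stabilizer_iff.1 h) hs.2)
  obtain ⟨w, ⟨hw, hwe⟩, huniq⟩ := Invol.se_unique_swap (se_stabilizer hM a) ht.1
    (mem_stabilizer_iff.2 ht.2) hs.1 hsa
  refine ⟨w, ⟨⟨hw, fixed_unique hM hs.1 ?_ hs.2⟩, hwe⟩, fun v hv => huniq v ⟨hv.1.1, hv.2⟩⟩
  conv_lhs => rw [← hwe, mul_smul, smul_smul_self hw, mul_smul, ht.2]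

theorem swapper_nonempty (hM : Cfsg.IsStronglyEmbedded M) {a b : G ⧸ M} (hab : a ≠ b) :
    (swapper M a b).Nonempty := by
  obtain ⟨t, ht⟩ := invAt_nonempty hM a
  obtain ⟨s, hs⟩ := invAt_nonempty hM b
  obtain ⟨w, hw, -⟩ := existsUnique_swapper hM hab ht hs
  exact ⟨w, hw.1⟩

theorem ncard_swapper (hM : Cfsg.IsStronglyEmbedded M) {a b : G ⧸ M} (hab : a ≠ b) :
    (swapper M a b).ncard = (invAt M b).ncard := by
  obtain ⟨t, ht⟩ := invAt_nonempty hM a
  have hmem : ∀ w ∈ swapper M a b, w * t * w ∈ invAt M b := fun w hw => by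
    refine ⟨?_, ?_⟩
    · have := Invol.orderOf_conj w t
      rw [Invol.inv_eq_self hw.1] at this
      exact this.trans ht.1
    · rw [mul_smul, mul_smul, swapper_symm hw, ht.2, hw.2]
  refine Set.ncard_congr (fun w _ => w * t * w) hmem (fun v w hv hw e => ?_) fun s hs => ?_
  · exact (existsUnique_swapper hM hab ht (hmem v hv)).unique ⟨hv, rfl⟩ ⟨hw, e.symm⟩
  · obtain ⟨w, ⟨hw, hwe⟩, -⟩ := existsUnique_swapper hM hab ht hs
    exact ⟨w, hw, hwe⟩

/-- The final count: some product of two involutions with distinct fixed points fixes no point. -/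
theorem false_of_products_fix (hM : Cfsg.IsStronglyEmbedded M) {t : G} {a : G ⧸ M}
    (ht : t ∈ invAt M a)
    (hfix : ∀ u : G, orderOf u = 2 → u • a ≠ a → ∃ c : G ⧸ M, (t * u) • c = c) : False := by
  classical
  have : Fintype G := Fintype.ofFinite G
  have : Fintype (G ⧸ M) := Fintype.ofFinite _
  set N := (invAt M a).ncard
  have hN : ∀ c : G ⧸ M, (Finset.univ.filter fun u => u ∈ invAt M c).card = N := fun c => by
    rw [← Set.ncard_coe_finset, show N = (invAt M c).ncard from ncard_invAt_eq a c]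
    congr 1
    ext; simp
  have hNpos : 0 < N := (Set.ncard_pos).2 ⟨t, ht⟩
  set pts := (Finset.univ : Finset (G ⧸ M)).erase a
  set U : Finset G := Finset.univ.filter fun u => orderOf u = 2 ∧ u • a ≠ a with hU
  have hU1 : U = pts.biUnion fun c => Finset.univ.filter fun u => u ∈ invAt M c := by
    ext u
    simp only [hU, pts, Finset.mem_filter, Finset.mem_univ, true_and, Finset.mem_biUnion,
      Finset.mem_erase, and_true]
    constructor
    · rintro ⟨hu, hua⟩
      obtain ⟨c, hc⟩ := exists_fixed hM hu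
      exact ⟨c, fun e => hua (e ▸ hc), hu, hc⟩
    · rintro ⟨c, hca, hu, hc⟩
      exact ⟨hu, fun h => hca (fixed_unique hM hu hc h)⟩
  have hU2 : U.card = pts.card * N := by
    rw [hU1, Finset.card_biUnion]
    · rw [Finset.sum_congr rfl fun c _ => hN c, Finset.sum_const, smul_eq_mul]
    · intro c _ d _ hcd
      refine Finset.disjoint_left.2 fun u hu hu' => hcd ?_
      simp only [Finset.mem_filter, Finset.mem_univ, true_and] at hu hu'
      exact fixed_unique hM hu.1 hu.2 hu'.2
  have hsub : U ⊆ pts.biUnion fun c => (Finset.univ.filter fun u => u ∈ swapper M c (t • c)).erase t := by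
    intro u hu
    simp only [hU, Finset.mem_filter, Finset.mem_univ, true_and] at hu
    obtain ⟨c, hc⟩ := hfix u hu.1 hu.2
    have hca : c ≠ a := fun e => hu.2 (by
      subst e
      rw [mul_smul] at hc
      have := congrArg (fun x => t • x) hc
      simp only [smul_smul_self ht.1] at this
      rwa [ht.2] at this)
    simp only [pts, Finset.mem_biUnion, Finset.mem_erase, Finset.mem_filter, Finset.mem_univ,
      true_and, and_true]
    refine ⟨c, hca, fun e => hu.2 (by rw [e]; exact ht.2), hu.1, ?_⟩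
    rw [mul_smul] at hc
    conv_rhs => rw [← hc, smul_smul_self ht.1]
  have hle : U.card ≤ pts.card * (N - 1) := by
    refine (Finset.card_le_card hsub).trans (Finset.card_biUnion_le.trans ?_)
    refine (Finset.sum_le_card_nsmul _ _ _ fun c hc => ?_).trans (smul_eq_mul _ _).le
    have hct : c ≠ t • c := fun e =>
      (Finset.mem_erase.1 hc).1 (fixed_unique hM ht.1 e.symm ht.2)
    have hmem : t ∈ Finset.univ.filter fun u => u ∈ swapper M c (t • c) := by
      simp only [Finset.mem_filter, Finset.mem_univ, true_and]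
      exact ⟨ht.1, rfl⟩
    rw [Finset.card_erase_of_mem hmem]
    refine Nat.sub_le_sub_right (le_of_eq ?_) 1
    rw [← Set.ncard_coe_finset, show N = (invAt M (t • c)).ncard from ncard_invAt_eq _ _,
      ← ncard_swapper hM hct]
    congr 1
    ext; simp
  have hpts : 0 < pts.card := by
    rw [Finset.card_pos]
    obtain ⟨g, hg⟩ : ∃ g, g ∉ stabilizer G a := by
      by_contra! h
      exact (se_stabilizer hM a).1 (eq_top_iff.2 fun x _ => h x)
    exact ⟨g • a, Finset.mem_erase.2 ⟨hg, Finset.mem_univ _⟩⟩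
  have h2 : pts.card * (N - 1) < pts.card * N := Nat.mul_lt_mul_of_pos_left (by omega) hpts
  omega

end Cfsg.Agent.NilPPrime
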