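import Cfsg.Agent.NilPPrime.Points
import Cfsg.Agent.Fusion.Frattini
import Cfsg.Agent.Control.Basic
import Cfsg.Agent.Coprime.Generation
import Cfsg.Agent.Layer.PConstraint

/-!
# Solvable subgroups and the points of a strongly embedded subgroup
-/

set_option autoImplicit false

namespace Cfsg.Agent.NilPPrime

open Subgroup MulAction

universe u

variable {G : Type u} [Group G] [Finite G] {M : Subgroup G}

/-- A solvable group of even order has an involution in its `O_{2',2}`. -/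
theorem exists_involution_core {X : Subgroup G} (hX : Group.IsSolvable X) (T : Sylow 2 X)
    (he : ∃ v ∈ X, orderOf v = 2) :
    ∃ q : X, q ∈ (T : Subgroup X) ⊓ Cfsg.pPrimePCore 2 X ∧ orderOf (q : G) = 2 := by
  have : Fact (Nat.Prime 2) := ⟨Nat.prime_two⟩
  set Q := (T : Subgroup X) ⊓ Cfsg.pPrimePCore 2 X
  by_cases hQ : Q = ⊥
  · exfalso
    have h1 := Fusion.pPrimePCore_eq_sup T
    rw [show (T : Subgroup X) ⊓ Cfsg.pPrimePCore 2 X = ⊥ from hQ, sup_bot_eq] at h1
    set f := QuotientGroup.mk' (Cfsg.pPrimeCore 2 X)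
    have h2 : Cfsg.pCore 2 (X ⧸ Cfsg.pPrimeCore 2 X) = ⊥ := by
      rw [eq_bot_iff]
      intro y hy
      obtain ⟨x, rfl⟩ := QuotientGroup.mk'_surjective _ y
      have : x ∈ Cfsg.pPrimePCore 2 X := hy
      rw [h1] at this
      exact mem_bot.2 ((QuotientGroup.eq_one_iff x).2 this)
    have hsc := Layer.isPConstrained_iff_selfCentral.1
      (Layer.isPConstrained_of_isSolvable (G := X) (p := 2))
    unfold Layer.PCoreSelfCentral at hsc
    rw [h2] at hsc
    obtain ⟨v, hv, hv2⟩ := he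
    have h3 : f ⟨v, hv⟩ ∈ (⊥ : Subgroup (X ⧸ Cfsg.pPrimeCore 2 X)) :=
      hsc (mem_centralizer_iff.2 (by rintro _ rfl; simp))
    have h4 : (⟨v, hv⟩ : X) ∈ Cfsg.pPrimeCore 2 X := (QuotientGroup.eq_one_iff _).1 (mem_bot.1 h3)
    have h5 := Subgroup.orderOf_dvd_natCard _ h4
    rw [orderOf_mk, hv2] at h5
    exact Core.not_dvd_card_pPrimeCore (p := 2) h5
  · have hQp : IsPGroup 2 Q := T.2.to_le inf_le_left
    obtain ⟨q, hq, hq2⟩ := Invol.exists_involution_of_ne_bot hQp hQ
    exact ⟨q, hq, (orderOf_coe q).trans hq2⟩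

/-- A solvable subgroup containing commuting distinct involutions fixes their point. -/
theorem fix_of_four (hM : Cfsg.IsStronglyEmbedded M) {X : Subgroup G} (hX : Group.IsSolvable X)
    {v1 v2 : G} (h1 : v1 ∈ X) (h2 : v2 ∈ X) (o1 : orderOf v1 = 2) (o2 : orderOf v2 = 2)
    (hne : v1 ≠ v2) (hc : Commute v1 v2) {a : G ⧸ M} (ha : v1 • a = a) :
    ∀ g ∈ X, g • a = a := by
  have : Fact (Nat.Prime 2) := ⟨Nat.prime_two⟩
  have ha2 : v2 • a = a := fixed_of_commute hM o1 ha hc.symm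
  set B := closure ({v1, v2} : Set G) with hBdef
  have hBc : IsMulCommutative B := Subgroup.isMulCommutative_closure (by
    rintro _ (rfl | rfl) _ (rfl | rfl)
    exacts [rfl, hc, hc.symm, rfl])
  have hv1 : v1 ∈ B := subset_closure (Set.mem_insert _ _)
  have hv2 : v2 ∈ B := subset_closure (Set.mem_insert_of_mem _ rfl)
  have hBsq : ∀ b ∈ B, b ^ 2 = 1 := by
    intro b hb
    induction hb using closure_induction with
    | mem x hx =>
      rcases hx with rfl | rfl
      · rw [← o1, pow_orderOf_eq_one]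
      · rw [← o2, pow_orderOf_eq_one]
    | one => simp
    | mul x y hx hy ex ey =>
      rw [(show Commute x y from congrArg Subtype.val (hBc.is_comm.comm ⟨x, hx⟩ ⟨y, hy⟩)).mul_pow,
        ex, ey, one_mul]
    | inv x _ ex => rw [inv_pow, ex, inv_one]
  have hBa : ∀ b ∈ B, b ≠ 1 → orderOf b = 2 ∧ b • a = a := fun b hb hb1 =>
    ⟨orderOf_eq_prime (hBsq b hb) hb1,
      fixed_of_commute hM o1 ha (show Commute b v1 from
        congrArg Subtype.val (hBc.is_comm.comm ⟨b, hb⟩ ⟨v1, hv1⟩))⟩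
  have hBX : B ≤ X := by
    rw [hBdef, closure_le]
    rintro _ (rfl | rfl) <;> assumption
  have hB2 : IsPGroup 2 B := fun b => ⟨1, Subtype.ext (by rw [pow_one]; exact hBsq b b.2)⟩
  have hBnc : ¬ IsCyclic B := by
    intro hcy
    obtain ⟨g, hg⟩ := hcy.exists_generator
    have hcard : Nat.card B ≤ 2 := by
      rw [← orderOf_eq_card_of_forall_mem_zpowers hg]
      exact Nat.le_of_dvd two_pos (orderOf_dvd_of_pow_eq_one (Subtype.ext (hBsq g g.2)))
    classical
    have := Fintype.ofFinite B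
    have h3 : ({1, ⟨v1, hv1⟩, ⟨v2, hv2⟩} : Finset B).card = 3 := by
      rw [Finset.card_eq_three]
      refine ⟨_, _, _, ?_, ?_, ?_, rfl⟩
      · exact fun e => Invol.ne_one o1 (congrArg Subtype.val e).symm
      · exact fun e => Invol.ne_one o2 (congrArg Subtype.val e).symm
      · exact fun e => hne (congrArg Subtype.val e)
    have := Finset.card_le_univ ({1, ⟨v1, hv1⟩, ⟨v2, hv2⟩} : Finset B)
    rw [h3, ← Nat.card_eq_fintype_card] at this
    omega
  -- the odd core
  set O := (Cfsg.pPrimeCore 2 X).map X.subtype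
  have hBO : B ≤ normalizer (O : Set G) := by
    refine hBX.trans fun x hx => ?_
    exact le_normalizer_map X.subtype ⟨⟨x, hx⟩, le_normalizer_of_normal (mem_top _), rfl⟩
  have hOodd : ¬ 2 ∣ Nat.card O := by
    rw [card_map_of_injective X.subtype_injective]; exact Core.not_dvd_card_pPrimeCore
  have hcop : (Nat.card B).Coprime (Nat.card O) := by
    obtain ⟨k, hk⟩ := IsPGroup.iff_card.1 hB2
    rw [hk]
    exact ((Nat.Prime.coprime_iff_not_dvd Nat.prime_two).2 hOodd).pow_left k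
  have hOfix : O ≤ stabilizer G a := by
    rw [← Coprime.iSup_centralizer_eq hBnc hBO hcop]
    refine iSup₂_le fun b hb x hx => ?_
    obtain ⟨hb, hb1⟩ := hb
    exact mem_stabilizer_iff.2 (fixed_of_commute hM (hBa b hb hb1).1 (hBa b hb hb1).2
      (mem_centralizer_singleton_iff.1 hx.2))
  -- a Sylow subgroup
  obtain ⟨T, hT⟩ := (hB2.comap_subtype (K := X)).exists_le_sylow
  have hTne : (T : Subgroup X) ≠ ⊥ := fun e => by
    have := hT (show (⟨v1, h1⟩ : X) ∈ B.subgroupOf X from hv1)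
    rw [e, mem_bot] at this
    exact Invol.ne_one o1 (congrArg Subtype.val this)
  have hTnt := (nontrivial_iff_ne_bot (T : Subgroup X)).2 hTne
  have hZ := T.2.center_nontrivial
  obtain ⟨zc, hzc, hz2⟩ := Invol.exists_involution_of_ne_bot
    (T.2.to_subgroup (center (T : Subgroup X))) (nontrivial_iff_ne_bot _ |>.1 hZ)
  set z : G := ((zc : X) : G)
  have hzo : orderOf z = 2 := by rw [show z = ((zc : X) : G) from rfl, orderOf_coe, orderOf_coe]; exact hz2
  have hzT : ∀ s : X, s ∈ (T : Subgroup X) → Commute z (s : G) := fun s hs =>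
    congrArg (fun r : (T : Subgroup X) => ((r : X) : G)) (mem_center_iff.1 hzc ⟨s, hs⟩).symm
  have hza : z • a = a := fixed_of_commute hM o1 ha (hzT ⟨v1, h1⟩ (hT hv1))
  have hTfix : ∀ s : X, s ∈ (T : Subgroup X) → (s : G) • a = a := fun s hs =>
    fixed_of_commute hM hzo hza (hzT s hs).symm
  obtain ⟨q, hq, hq2⟩ := exists_involution_core hX T ⟨v1, h1, o1⟩
  intro g hg
  obtain ⟨d, hd, n, hn, e⟩ := Fusion.exists_pPrimeCore_mul T ⟨g, hg⟩
  have hda : (d : G) • a = a := hOfix ⟨d, hd, rfl⟩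
  have hn' : (n : G) • a = a := by
    have hq' := (mem_normalizer_iff.1 hn q).1 hq
    have hqa : (q : G) • a = a := hTfix q (mem_inf.1 hq).1
    have hq'a : ((n : G) * q * (n : G)⁻¹) • a = a := hTfix _ (mem_inf.1 hq').1
    refine fixed_unique hM (t := (n : G) * q * (n : G)⁻¹)
      ((Invol.orderOf_conj _ _).trans hq2) ?_ hq'a
    rw [smul_smul, show (n : G) * q * (n : G)⁻¹ * n = (n : G) * q by group, mul_smul, hqa]
  rw [show g = (d : G) * n from congrArg Subtype.val e, mul_smul, hn', hda]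

/-- In a solvable subgroup without four-groups all involutions agree modulo the odd core. -/
theorem involutions_congr {L : Subgroup G} (hL : Group.IsSolvable L)
    (hno : ∀ v1 ∈ L, ∀ v2 ∈ L, orderOf v1 = 2 → orderOf v2 = 2 → Commute v1 v2 → v1 = v2)
    {i j : G} (hi : i ∈ L) (hj : j ∈ L) (oi : orderOf i = 2) (oj : orderOf j = 2) :
    i * j ∈ (Cfsg.pPrimeCore 2 L).map L.subtype := by
  have : Fact (Nat.Prime 2) := ⟨Nat.prime_two⟩
  obtain ⟨T⟩ : Nonempty (Sylow 2 L) := inferInstance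
  obtain ⟨q, hq, hq2⟩ := exists_involution_core hL T ⟨i, hi, oi⟩
  have hTne : (T : Subgroup L) ≠ ⊥ := fun e => by
    have h := (mem_inf.1 hq).1
    rw [e, mem_bot] at h
    rw [h, OneMemClass.coe_one, orderOf_one] at hq2
    omega
  have hTnt := (nontrivial_iff_ne_bot (T : Subgroup L)).2 hTne
  have hZ := T.2.center_nontrivial
  obtain ⟨zc, hzc, hz2⟩ := Invol.exists_involution_of_ne_bot
    (T.2.to_subgroup (center (T : Subgroup L))) (nontrivial_iff_ne_bot _ |>.1 hZ)
  have huniq : ∀ s : L, s ∈ (T : Subgroup L) → orderOf (s : G) = 2 → (s : G) = ((zc : L) : G) := by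
    intro s hs hs2
    refine hno _ s.2 _ (zc : L).2 hs2 (by rw [orderOf_coe, orderOf_coe]; exact hz2) ?_
    exact congrArg (fun r : (T : Subgroup L) => ((r : L) : G)) (mem_center_iff.1 hzc ⟨s, hs⟩)
  have hP : (Cfsg.pPrimePCore 2 L).Normal := @Subgroup.normal_of_characteristic _ _ _
    Coprime.pPrimePCore_characteristic
  set f := QuotientGroup.mk' (Cfsg.pPrimeCore 2 L)
  have key : ∀ x : L, orderOf (x : G) = 2 → f x = f q := by
    intro x hx
    have hxp : IsPGroup 2 (zpowers x) :=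
      IsPGroup.of_card (n := 1) (by rw [Nat.card_zpowers, ← orderOf_coe, hx, pow_one])
    obtain ⟨k, -, hk⟩ := (Control.sylIn_top T).exists_cjSub_le hxp le_top
    have hxT : k * x * k⁻¹ ∈ (T : Subgroup L) := hk ⟨x, mem_zpowers x, rfl⟩
    have hkx : k * x * k⁻¹ = q := Subtype.ext ((huniq _ hxT (by
      rw [Subgroup.coe_mul, Subgroup.coe_mul, Subgroup.coe_inv, Invol.orderOf_conj, hx])).trans
      (huniq q (mem_inf.1 hq).1 hq2).symm)
    have hxP : x ∈ Cfsg.pPrimePCore 2 L := by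
      have := hP.conj_mem _ (mem_inf.1 hq).2 k⁻¹
      rwa [← hkx, show k⁻¹ * (k * x * k⁻¹) * k⁻¹⁻¹ = x by group] at this
    rw [Fusion.pPrimePCore_eq_sup T] at hxP
    obtain ⟨o, ho, r, hr, hor⟩ := mem_sup_of_normal_left.1 hxP
    have hfr : f x = f r := by
      rw [← hor, map_mul, show f o = 1 from (QuotientGroup.eq_one_iff o).2 ho, one_mul]
    have hr2 : r ^ 2 = 1 := by
      have h1 : f (r ^ 2) = 1 := by
        rw [map_pow, ← hfr, ← map_pow, show x ^ 2 = 1 from Subtype.ext (by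
          rw [SubmonoidClass.coe_pow, ← hx, pow_orderOf_eq_one, OneMemClass.coe_one]), map_one]
      have h3 : r ^ 2 ∈ Cfsg.pPrimeCore 2 L ⊓ ((T : Subgroup L) ⊓ Cfsg.pPrimePCore 2 L) :=
        mem_inf.2 ⟨(QuotientGroup.eq_one_iff _).1 h1, pow_mem hr 2⟩
      rw [inf_eq_bot_of_coprime (by
        obtain ⟨m, hm⟩ := IsPGroup.iff_card.1
          (T.2.to_le inf_le_left : IsPGroup 2 ↥((T : Subgroup L) ⊓ Cfsg.pPrimePCore 2 L))
        rw [hm]
        exact ((Nat.Prime.coprime_iff_not_dvd Nat.prime_two).2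
          Core.not_dvd_card_pPrimeCore).symm.pow_right m)] at h3
      exact mem_bot.1 h3
    have hr1 : r ≠ 1 := fun e => by
      rw [e, mul_one] at hor
      have h5 := Subgroup.orderOf_dvd_natCard _ (hor ▸ ho)
      rw [← orderOf_coe, hx] at h5
      exact Core.not_dvd_card_pPrimeCore (p := 2) h5
    rw [hfr, show r = q from Subtype.ext ((huniq r (mem_inf.1 hr).1
      (by rw [orderOf_coe]; exact orderOf_eq_prime hr2 hr1)).trans (huniq q (mem_inf.1 hq).1 hq2).symm)]
  refine ⟨⟨i, hi⟩ * ⟨j, hj⟩, (QuotientGroup.eq_one_iff _).1 ?_, rfl⟩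
  show f (⟨i, hi⟩ * ⟨j, hj⟩) = 1
  rw [map_mul, key ⟨i, hi⟩ oi, ← key ⟨j, hj⟩ oj, ← map_mul,
    show (⟨j, hj⟩ : L) * ⟨j, hj⟩ = 1 from Subtype.ext (Invol.mul_self_eq_one oj), map_one]

end Cfsg.Agent.NilPPrime
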